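import Cfsg.Agent.Lib.Chev.BN
import Cfsg.Agent.Lib.BN.Basic

/-!
The sharp Bruhat normal form `u h n_w v` of a Chevalley group and its uniqueness for a fixed word.
-/

set_option autoImplicit false
set_option linter.unusedSectionVars false

namespace CfsgLib.ChevField

open Cfsg.Lie CfsgLib.Chev
open scoped Matrix

variable {D : ChevalleyDatum} {T : Tabs} {F : Type*} [Field F]

/-- positive roots made negative by the word -/
def Flip (D : ChevalleyDatum) (T : Tabs) (L : List (Fin D.rank)) (r : ℕ) : Prop :=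
  D.nroots / 2 ≤ r ∧ sigs D T L r < D.nroots / 2

section
variable (hc : Checked D T)
include hc

/-- conjugation by a product of n_p(1) moves the generators along the permutation of the roots -/
theorem nProd_conj_uGen (L : List (Fin D.rank)) {P Q : ℕ → Prop}
    (h : ∀ r, r < D.nroots → P r → Q (sigs D T L r)) {g : GL D.Idx F} (hg : g ∈ uGen D F P) :
    nProd D F L * g * (nProd D F L)⁻¹ ∈ uGen D F Q := by
  induction hg using Subgroup.closure_induction with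
  | mem x hx =>
      obtain ⟨r, t, hr, hP, rfl⟩ := hx
      obtain ⟨c, -, hcx⟩ := nProd_conj_elX hc (F := F) L hr
      rw [hcx]
      exact elX_mem_uGen (sigs_lt hc L hr) (h r hr hP) _
  | one => simp
  | mul x y _ _ hx hy =>
      rw [show ∀ n a b : GL D.Idx F, n * (a * b) * n⁻¹ = (n * a * n⁻¹) * (n * b * n⁻¹) from fun n a b => by group]
      exact mul_mem hx hy
  | inv x _ hx =>
      rw [show ∀ n a : GL D.Idx F, n * a⁻¹ * n⁻¹ = (n * a * n⁻¹)⁻¹ from fun n a => by group]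
      exact inv_mem hx

variable (hcomm : CommOne D T)
include hcomm

theorem exists_bruhat {g : GL D.Idx F} (hg : g ∈ D.group F) :
    ∃ (L : List (Fin D.rank)) (u h v : GL D.Idx F), u ∈ uGen D F (fun r => D.nroots / 2 ≤ r) ∧
      h ∈ D.diagonalSubgroup F ∧ v ∈ uGen D F (Flip D T L) ∧ g = u * h * nProd D F L * v := by
  obtain ⟨P, hB, hN, -⟩ := exists_bnPair hc hcomm (F := F)
  obtain ⟨w, hw⟩ := CfsgLib.BN.exists_cell P ⟨g, hg⟩
  obtain ⟨n, hn, rfl⟩ := CfsgLib.BN.exists_rep P w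
  obtain ⟨b, hb, b', hb', hgb⟩ := (CfsgLib.BN.mem_cell_wk P hn).1 hw
  rw [hB, Subgroup.mem_subgroupOf] at hb hb'
  rw [hN, Subgroup.mem_subgroupOf] at hn
  have e : g = (b : GL D.Idx F) * (n : GL D.Idx F) * (b' : GL D.Idx F) := congrArg Subtype.val hgb
  obtain ⟨h₁, hh₁, L, hnL⟩ := monomial_cases hc hn
  obtain ⟨u₀, hu₀, h₀, hh₀, hb0⟩ := (mem_borel hc).1 hb
  obtain ⟨u₂, hu₂, h₂, hh₂, hb2⟩ := (mem_borel hc).1 hb'
  have hv : h₂⁻¹ * u₂ * h₂ ∈ uGen D F (fun r => D.nroots / 2 ≤ r) := diag_conj_mem' hc _ hh₂ hu₂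
  obtain ⟨a, ha, v, hvm, hav⟩ := uGen_split hc hcomm (closedPos_pos hc)
    (Q := fun r => D.nroots / 2 ≤ r ∧ D.nroots / 2 ≤ sigs D T L r) (R := Flip D T L)
    (fun r _ hp => by
      rcases Nat.lt_or_ge (sigs D T L r) (D.nroots / 2) with h | h
      · exact Or.inr ⟨hp, h⟩
      · exact Or.inl ⟨hp, h⟩) hv
  have ha' : nProd D F L * a * (nProd D F L)⁻¹ ∈ uGen D F (fun r => D.nroots / 2 ≤ r) :=
    nProd_conj_uGen hc L (fun r _ hP => hP.2) ha
  have hh : h₀ * h₁ * (nProd D F L * h₂ * (nProd D F L)⁻¹) ∈ D.diagonalSubgroup F :=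
    mul_mem (mul_mem hh₀ hh₁) (nProd_conj_diagonal hc L hh₂)
  refine ⟨L, u₀ * ((h₀ * h₁ * (nProd D F L * h₂ * (nProd D F L)⁻¹)) * (nProd D F L * a * (nProd D F L)⁻¹) *
    (h₀ * h₁ * (nProd D F L * h₂ * (nProd D F L)⁻¹))⁻¹), _, v, mul_mem hu₀ (diag_conj_mem hc _ hh ha'), hh, hvm, ?_⟩
  rw [e, hb0, hb2, hnL]
  calc u₀ * h₀ * (h₁ * nProd D F L) * (u₂ * h₂)
      = u₀ * (h₀ * h₁ * (nProd D F L * h₂ * (nProd D F L)⁻¹)) * nProd D F L * (h₂⁻¹ * u₂ * h₂) := by group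
    _ = _ := by rw [hav]; group

theorem bruhat_unique {L : List (Fin D.rank)} {u u' h h' v v' : GL D.Idx F}
    (hu : u ∈ uGen D F (fun r => D.nroots / 2 ≤ r)) (hu' : u' ∈ uGen D F (fun r => D.nroots / 2 ≤ r))
    (hh : h ∈ D.diagonalSubgroup F) (hh' : h' ∈ D.diagonalSubgroup F)
    (hv : v ∈ uGen D F (Flip D T L)) (hv' : v' ∈ uGen D F (Flip D T L))
    (e : u * h * nProd D F L * v = u' * h' * nProd D F L * v') : u = u' ∧ h = h' ∧ v = v' := by
  set n := nProd D F L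
  have e1 : (u * h)⁻¹ * (u' * h') = n * (v * v'⁻¹) * n⁻¹ := by
    calc (u * h)⁻¹ * (u' * h') = (u * h)⁻¹ * (u' * h' * n * v') * v'⁻¹ * n⁻¹ := by group
      _ = (u * h)⁻¹ * (u * h * n * v) * v'⁻¹ * n⁻¹ := by rw [e]
      _ = _ := by group
  have hb : (u * h)⁻¹ * (u' * h') ∈ D.borelSubgroup F :=
    mul_mem (inv_mem (mul_mem (pos_le_borel hc hu) (diagonal_le_borel hc hh)))
      (mul_mem (pos_le_borel hc hu') (diagonal_le_borel hc hh'))
  have hneg : n * (v * v'⁻¹) * n⁻¹ ∈ uGen D F (fun r => r < D.nroots / 2) :=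
    nProd_conj_uGen hc L (fun r _ hP => hP.2) (mul_mem hv (inv_mem hv'))
  have h1 : (u * h)⁻¹ * (u' * h') = 1 := borel_inf_neg hc hb (e1 ▸ hneg)
  rw [h1] at e1
  have hv2 : v = v' := mul_inv_eq_one.1 (conj_eq_one_iff.1 e1.symm)
  have h2 : u * h = u' * h' := inv_mul_eq_one.1 h1
  have h3 : u'⁻¹ * u = h' * h⁻¹ := by
    calc u'⁻¹ * u = u'⁻¹ * (u * h) * h⁻¹ := by group
      _ = _ := by rw [h2]; group
  have h4 : u'⁻¹ * u = 1 := pos_inf_diag hc (mul_mem (inv_mem hu') hu) (h3 ▸ mul_mem hh' (inv_mem hh))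
  have hu2 : u' = u := inv_mul_eq_one.1 h4
  subst hu2
  exact ⟨rfl, mul_left_cancel h2, hv2⟩

end

end CfsgLib.ChevField
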