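import Cfsg.Agent.Lib.ChevField.Bruhat
import Cfsg.Agent.Lib.Chevalley.FieldMap

/-!
Entrywise field homomorphisms on Chevalley groups; elements fixed by an automorphism of the field come from a
subfield when the torus parametrisation is surjective over it.
-/

set_option autoImplicit false
set_option linter.unusedSectionVars false

namespace CfsgLib.ChevField

open Cfsg.Lie CfsgLib.Chev
open scoped Matrix

variable {D : ChevalleyDatum} {T : Tabs} {F E : Type*} [Field F] [Field E]

/-- entrywise application of a field homomorphism -/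
noncomputable def glMap (D : ChevalleyDatum) (f : F →+* E) : GL D.Idx F →* GL D.Idx E :=
  Units.map f.mapMatrix.toMonoidHom

theorem glMap_coe (f : F →+* E) (g : GL D.Idx F) :
    ((glMap D f g : GL D.Idx E) : Matrix D.Idx D.Idx E) = (g : Matrix D.Idx D.Idx F).map f := rfl

theorem glMap_injective (f : F →+* E) : Function.Injective (glMap D f) := fun a b h => by
  ext i j
  exact f.injective (congrArg (fun g : GL D.Idx E => (g : Matrix D.Idx D.Idx E) i j) h :)

theorem glMap_torus (f : F →+* E) (χ : Fin D.rank → Fˣ) :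
    glMap D f (torus D T F χ) = torus D T E (fun j => Units.map f.toMonoidHom (χ j)) := by
  ext1
  rw [glMap_coe, coe_torus, coe_torus, Matrix.diagonal_map (map_zero f)]
  congr 1
  funext x
  show (Units.map f.toMonoidHom (chi χ (wI D T x)) : E) = _
  congr 1
  simp only [chi, map_prod, map_zpow]

theorem glMap_hPar (f : F →+* E) (c : Fin D.rank → Fˣ) :
    (fun j => Units.map f.toMonoidHom (hPar D F c j)) = hPar D E (fun i => Units.map f.toMonoidHom (c i)) := by
  funext j
  show Units.map f.toMonoidHom (∏ i, c i ^ cm D i j) = ∏ i, Units.map f.toMonoidHom (c i) ^ cm D i j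
  simp only [map_prod, map_zpow]

section
variable (hc : Checked D T)
include hc

theorem glMap_elX (f : F →+* E) {r : ℕ} (hr : r < D.nroots) (t : F) :
    glMap D f (elX D F r t) = elX D E r (f t) := by
  ext1
  rw [glMap_coe, coe_elX hc F hr, coe_elX hc E hr]
  exact CfsgLib.Chevalley.x_map_ringHom D f r t

theorem glMap_nProd (f : F →+* E) (L : List (Fin D.rank)) : glMap D f (nProd D F L) = nProd D E L := by
  rw [nProd, nProd, map_list_prod, List.map_map]
  congr 1
  refine List.map_congr_left fun i _ => ?_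
  show glMap D f (elN D F (D.simple i.val) 1) = _
  have hp := simple_lt hc i.2
  rw [elN, elN, map_mul, map_mul, glMap_elX hc f hp, glMap_elX hc f (neg_lt hc hp), map_one, inv_one, inv_one,
    map_neg, map_one]

theorem glMap_uGen (f : F →+* E) {P : ℕ → Prop} {g : GL D.Idx F} (hg : g ∈ uGen D F P) :
    glMap D f g ∈ uGen D E P := by
  have h : (uGen D F P).map (glMap D f) ≤ uGen D E P := by
    rw [Subgroup.map_le_iff_le_comap, uGen_le_iff]
    intro r hr hP t
    rw [Subgroup.mem_comap, glMap_elX hc f hr]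
    exact elX_mem_uGen hr hP _
  exact h (Subgroup.mem_map_of_mem _ hg)

theorem glMap_group (f : F →+* E) {g : GL D.Idx F} (hg : g ∈ D.group F) : glMap D f g ∈ D.group E := by
  rw [group_eq hc] at hg ⊢
  exact glMap_uGen hc f hg

theorem glMap_diagonal (f : F →+* E) {g : GL D.Idx F} (hg : g ∈ D.diagonalSubgroup F) :
    glMap D f g ∈ D.diagonalSubgroup E := by
  obtain ⟨c, rfl⟩ := (mem_diagonal hc).1 hg
  refine (mem_diagonal hc).2 ⟨fun i => Units.map f.toMonoidHom (c i), ?_⟩
  rw [glMap_torus, glMap_hPar]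

theorem torus_fixed {σ : F →+* F} {χ : Fin D.rank → Fˣ} (h : glMap D σ (torus D T F χ) = torus D T F χ)
    (j : Fin D.rank) : σ (χ j : F) = χ j := by
  have e := congrArg (fun g : GL D.Idx F => (g : Matrix D.Idx D.Idx F) (Sum.inr ⟨D.simple j.val, simple_lt hc j.2⟩)
    (Sum.inr ⟨D.simple j.val, simple_lt hc j.2⟩)) h
  simp only [glMap_coe, coe_torus, Matrix.map_apply, Matrix.diagonal_apply_eq, wI_inr, rv_simple hc, chi_single,
    zpow_one] at e
  exact e

variable (hcomm : CommOne D T)
include hcomm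

variable {F₀ : Type*} [Field F₀] (ι : F₀ →+* F)

theorem pos_descent (σ : F →+* F) (hfix : ∀ a, σ a = a → a ∈ Set.range ι) {g : GL D.Idx F}
    (hg : g ∈ uGen D F (fun r => D.nroots / 2 ≤ r)) (hσ : glMap D σ g = g) :
    g ∈ (D.group F₀).map (glMap D ι) := by
  obtain ⟨t, rfl⟩ := uGen_exists hc hcomm (closedPos_pos hc) hg
  set R := rootsFrom D (fun r => D.nroots / 2 ≤ r) 0
  have hmap : glMap D σ (uProd D F R t) = uProd D F R (fun r => σ (t r)) := by
    rw [uProd, uProd, map_list_prod, List.map_map]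
    exact congrArg List.prod (List.map_congr_left fun r hr => glMap_elX hc σ (mem_rootsFrom.1 hr).2.1 (t r))
  rw [hmap] at hσ
  have hfx := uProd_inj hc (fun r _ h => h) 0 hσ
  rw [uProd]
  refine Subgroup.list_prod_mem _ fun x hx => ?_
  obtain ⟨r, hr, rfl⟩ := List.mem_map.1 hx
  obtain ⟨a, ha⟩ := hfix _ (hfx r hr)
  have hrn := (mem_rootsFrom.1 hr).2.1
  exact ⟨elX D F₀ r a, elX_mem_group hc hrn a, by rw [glMap_elX hc ι hrn, ha]⟩

theorem fixed_descent (σ : F →+* F) (hfix : ∀ a, σ a = a → a ∈ Set.range ι)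
    (hsurj : Function.Surjective (hPar D F₀)) {g : GL D.Idx F} (hg : g ∈ D.group F) (hσ : glMap D σ g = g) :
    g ∈ (D.group F₀).map (glMap D ι) := by
  obtain ⟨L, u, h, v, hu, hh, hv, rfl⟩ := exists_bruhat hc hcomm hg
  rw [map_mul, map_mul, map_mul, glMap_nProd hc] at hσ
  obtain ⟨hu', hh', hv'⟩ := bruhat_unique hc hcomm (glMap_uGen hc σ hu) hu (glMap_diagonal hc σ hh) hh
    (glMap_uGen hc σ hv) hv hσ
  refine mul_mem (mul_mem (mul_mem (pos_descent hc hcomm ι σ hfix hu hu') ?_) ?_)
    (pos_descent hc hcomm ι σ hfix (uGen_mono (fun r _ hP => hP.1) hv) hv')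
  · obtain ⟨c, rfl⟩ := (mem_diagonal hc).1 hh
    choose χ₀ hχ₀ using fun j => hfix _ (torus_fixed hc hh' j)
    have hne : ∀ j, χ₀ j ≠ 0 := fun j h0 => (hPar D F c j).ne_zero (by rw [← hχ₀ j, h0, map_zero])
    obtain ⟨c₀, hc₀⟩ := hsurj fun j => Units.mk0 (χ₀ j) (hne j)
    refine ⟨torus D T F₀ (hPar D F₀ c₀), diagonal_le_group hc ((mem_diagonal hc).2 ⟨c₀, rfl⟩), ?_⟩
    rw [glMap_torus, hc₀]
    congr 1
    funext j
    exact Units.ext (hχ₀ j)
  · exact ⟨nProd D F₀ L, monomial_le_group hc (nProd_mem_monomial hc L), glMap_nProd hc ι L⟩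

end

end CfsgLib.ChevField
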