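import Mathlib
import Cfsg.Agent.Lib.ChevField.Descent
import Cfsg.Agent.Lib.Chev.CommCheck
import Cfsg.Prelude.Def_ChevAutomorphisms

/-!
Fixed points of field automorphisms of prime order of the Chevalley groups with unimodular Cartan matrix.
-/

set_option autoImplicit false
set_option linter.unusedSectionVars false

namespace CfsgLib.ChevField

open Cfsg.Lie CfsgLib.Chev
open scoped Matrix

variable {D : ChevalleyDatum}

/-- An integral left inverse of the Cartan matrix. -/
def CartanInv (D : ChevalleyDatum) (M : Fin D.rank → Fin D.rank → ℤ) : Prop :=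
  ∀ i j, ∑ k, M i k * cm D k j = if i = j then 1 else 0

theorem hPar_surjective {F : Type*} [Field F] {M : Fin D.rank → Fin D.rank → ℤ} (hM : CartanInv D M) :
    Function.Surjective (hPar D F) := by
  intro χ
  refine ⟨fun i => ∏ k, χ k ^ M k i, funext fun j => ?_⟩
  show ∏ i, (∏ k, χ k ^ M k i) ^ cm D i j = χ j
  simp only [← Finset.prod_zpow, ← zpow_mul]
  rw [Finset.prod_comm]
  simp only [prod_zpow_sum]
  rw [Finset.prod_eq_single j]
  · rw [hM j j, if_pos rfl, zpow_one]
  · intro k _ hk; rw [hM k j, if_neg hk, zpow_zero]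
  · simp

theorem exists_fixed_group {T : Tabs} (hc : Checked D T) (hcomm : CommOne D T) (hroot : 0 < D.nroots)
    {M : Fin D.rank → Fin D.rank → ℤ} (hM : CartanInv D M) {F : Type*} [Field F] [Fintype F]
    (φ : MulAut ↥(D.group F)) (hφ : D.IsFieldAut φ) (r : ℕ) (hr : r.Prime) (ho : orderOf φ = r) :
    ∃ (F₀ : Type) (_ : Field F₀) (_ : Fintype F₀), Fintype.card F = Fintype.card F₀ ^ r ∧
      Nonempty (↥((MulEquiv.toMonoidHom φ).eqLocus (MonoidHom.id ↥(D.group F))) ≃* ↥(D.group F₀)) := by
  classical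
  obtain ⟨σ, hσ⟩ := hφ
  -- the automorphism acts entrywise
  have hact : ∀ g : ↥(D.group F), ((φ g : ↥(D.group F)) : GL D.Idx F) = glMap D σ.toRingHom (g : GL D.Idx F) := by
    let f₁ : ↥(D.group F) →* GL D.Idx F := (D.group F).subtype.comp φ.toMonoidHom
    let f₂ : ↥(D.group F) →* GL D.Idx F := (glMap D σ.toRingHom).comp (D.group F).subtype
    suffices hf : f₁ = f₂ from fun g => DFunLike.congr_fun hf g
    refine MonoidHom.ext fun ⟨g, hg⟩ => ?_
    refine Subgroup.closure_induction (p := fun g hg => f₁ ⟨g, hg⟩ = f₂ ⟨g, hg⟩) ?_ ?_ ?_ ?_ hg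
    · rintro x ⟨i, t, hx⟩
      have hxe : x = elX D F i.val t := by
        ext1
        rw [hx, coe_elX hc F i.2, ChevalleyDatum.x, dif_pos i.2]
      subst hxe
      apply Units.ext
      show ((φ ⟨_, _⟩ : ↥(D.group F)) : GL D.Idx F).val = (glMap D σ.toRingHom (elX D F i.val t)).val
      rw [hσ _ i.val t i.2 (coe_elX hc F i.2 t), glMap_elX hc σ.toRingHom i.2, coe_elX hc F i.2]
      rfl
    · exact (map_one f₁).trans (map_one f₂).symm
    · intro x y hx hy e1 e2
      show f₁ (⟨x, hx⟩ * ⟨y, hy⟩) = f₂ (⟨x, hx⟩ * ⟨y, hy⟩)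
      rw [map_mul, map_mul, e1, e2]
    · intro x hx e
      show f₁ (⟨x, hx⟩⁻¹) = f₂ (⟨x, hx⟩⁻¹)
      rw [map_inv, map_inv, e]
  have hiter : ∀ k : ℕ, ∀ g : ↥(D.group F),
      (((φ ^ k) g : ↥(D.group F)) : GL D.Idx F) = glMap D (σ ^ k : RingAut F).toRingHom (g : GL D.Idx F) := by
    intro k
    induction k with
    | zero => intro g; ext i j; rfl
    | succ k ih =>
      intro g
      rw [pow_succ', MulAut.mul_apply, hact, ih]
      ext i j
      simp only [glMap_coe, Matrix.map_apply]
      rw [pow_succ']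
      rfl
  have hord : orderOf σ = r := by
    rw [← ho]
    refine orderOf_eq_orderOf_iff.2 fun k => ⟨fun h => ?_, fun h => ?_⟩
    · refine MulEquiv.ext fun g => Subtype.ext ?_
      rw [hiter, h]
      ext i j
      rfl
    · refine RingEquiv.ext fun t => ?_
      have e := hiter k ⟨elX D F 0 t, elX_mem_group hc hroot t⟩
      rw [h] at e
      have e' : elX D F 0 t = elX D F 0 ((σ ^ k : RingAut F) t) := e.trans (glMap_elX hc _ hroot t)
      have h1 : elX D F 0 (((σ ^ k : RingAut F) t) - t) = 1 := by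
        rw [sub_eq_add_neg, ← elX_add hc F hroot, ← e', elX_add hc F hroot, add_neg_cancel, elX_zero hc F hroot]
      show (σ ^ k : RingAut F) t = t
      exact sub_eq_zero.1 ((elX_eq_one_iff hc hroot _).1 h1)
  -- the fixed field
  let Γ := Subgroup.zpowers σ
  let K := FixedPoints.subfield Γ F
  haveI : Finite (RingAut F) := Finite.of_injective (fun e : F ≃+* F => (e : F → F)) DFunLike.coe_injective
  haveI : Finite Γ := Subtype.finite
  letI := Fintype.ofFinite Γ
  haveI : FaithfulSMul Γ F := ⟨fun {a b} h => Subtype.ext (RingEquiv.ext fun x => h x)⟩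
  have hfin : Module.finrank K F = r := by
    rw [FixedPoints.finrank_eq_card, ← Nat.card_eq_fintype_card, Nat.card_zpowers, hord]
  have hcard : Fintype.card F = Fintype.card K ^ r := by
    rw [← hfin]; exact Module.card_eq_pow_finrank
  have hfix : ∀ a, σ a = a → a ∈ Set.range K.subtype := fun a ha => by
    refine ⟨⟨a, fun g => ?_⟩, rfl⟩
    have hmem : (g : RingAut F) ∈ MulAction.stabilizer (RingAut F) a :=
      Subgroup.zpowers_le.2 (show σ ∈ MulAction.stabilizer (RingAut F) a from ha) g.2
    exact hmem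
  have hfixed : ∀ x : K, σ (x : F) = x := fun x => x.2 ⟨σ, Subgroup.mem_zpowers σ⟩
  -- a copy of the fixed field in `Type`
  obtain ⟨p, hp⟩ := CharP.exists K
  obtain ⟨k, hpp, hk⟩ := FiniteField.card K p
  haveI := Fact.mk hpp
  letI : Fintype (GaloisField p k) := Fintype.ofFinite _
  have hk' : Fintype.card (GaloisField p k) = Fintype.card K := by
    rw [← Nat.card_eq_fintype_card, GaloisField.card p k k.pos.ne', hk]
  let e : GaloisField p k ≃+* K := FiniteField.ringEquivOfCardEq hk'
  let ι : GaloisField p k →+* F := K.subtype.comp e.toRingHom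
  refine ⟨GaloisField p k, inferInstance, inferInstance, by rw [hk', hcard], ⟨?_⟩⟩
  let f : ↥(D.group (GaloisField p k)) →* ↥(D.group F) :=
    ((glMap D ι).comp (D.group (GaloisField p k)).subtype).codRestrict _ fun x => glMap_group hc ι x.2
  have hf : Function.Injective f := fun a b h =>
    Subtype.ext (glMap_injective ι (congrArg Subtype.val h :))
  have hrange : f.range = (MulEquiv.toMonoidHom φ).eqLocus (MonoidHom.id ↥(D.group F)) := by
    ext g
    constructor
    · rintro ⟨x, rfl⟩
      refine Subtype.ext ?_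
      show ((φ (f x) : ↥(D.group F)) : GL D.Idx F) = glMap D ι (x : GL D.Idx (GaloisField p k))
      rw [hact]
      ext i j
      exact hfixed _
    · intro hg
      have hgσ : glMap D σ.toRingHom (g : GL D.Idx F) = g := (hact g).symm.trans (congrArg Subtype.val hg)
      obtain ⟨x, hx, hxg⟩ := fixed_descent hc hcomm ι σ.toRingHom
        (fun a ha => by
          obtain ⟨b, hb⟩ := hfix a ha
          exact ⟨e.symm b, by rw [← hb]; exact congrArg K.subtype (e.apply_symm_apply b)⟩)
        (hPar_surjective hM) g.2 hgσ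
      exact ⟨⟨x, hx⟩, Subtype.ext hxg⟩
  exact (MulEquiv.subgroupCongr hrange.symm).trans (MonoidHom.ofInjective hf).symm

end CfsgLib.ChevField
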